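import Cfsg.Agent.Components.PCompInternal
import Cfsg.Agent.PCore.AxB
import Cfsg.Agent.PCore.Basic

/-!
Components of the centralizer of an involutory element inside the layer: such a component is a
component, lies properly in a `t`-invariant component, or is the diagonal of a pair swapped by `t`.
-/

set_option autoImplicit false

namespace CfsgLib.Components

open scoped commutatorElement
open Cfsg (IsQuasisimple IsComponent IsPComponent pPrimeCore pLayer layer)

variable {G : Type*} [Group G]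

/-- Elements of `K * C_G(M)` for `K ≤ M`. -/
def mulCentralizer (K M : Subgroup G) (hKM : K ≤ M) : Subgroup G where
  carrier := {x | ∃ m ∈ K, m⁻¹ * x ∈ Subgroup.centralizer (M : Set G)}
  one_mem' := ⟨1, one_mem K, by simp [one_mem]⟩
  mul_mem' := by
    rintro x y ⟨m, hm, hx⟩ ⟨n, hn, hy⟩
    refine ⟨m * n, mul_mem hm hn, ?_⟩
    have hc : n * (m⁻¹ * x) = (m⁻¹ * x) * n := Subgroup.mem_centralizer_iff.1 hx n (hKM hn)
    have e : (m * n)⁻¹ * (x * y) = (m⁻¹ * x) * (n⁻¹ * y) := by
      calc (m * n)⁻¹ * (x * y) = n⁻¹ * ((m⁻¹ * x) * n) * (n⁻¹ * y) := by group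
        _ = n⁻¹ * (n * (m⁻¹ * x)) * (n⁻¹ * y) := by rw [hc]
        _ = _ := by group
    rw [e]; exact mul_mem hx hy
  inv_mem' := by
    rintro x ⟨m, hm, hx⟩
    refine ⟨m⁻¹, inv_mem hm, ?_⟩
    have hc : m * (m⁻¹ * x)⁻¹ = (m⁻¹ * x)⁻¹ * m := Subgroup.mem_centralizer_iff.1 (inv_mem hx) m (hKM hm)
    have e : m⁻¹⁻¹ * x⁻¹ = (m⁻¹ * x)⁻¹ := by
      calc m⁻¹⁻¹ * x⁻¹ = m * (m⁻¹ * x)⁻¹ * m⁻¹ := by group
        _ = (m⁻¹ * x)⁻¹ * m * m⁻¹ := by rw [hc]
        _ = _ := by group
    rw [e]; exact inv_mem hx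

theorem mem_mulCentralizer {K M : Subgroup G} {hKM : K ≤ M} {x : G} :
    x ∈ mulCentralizer K M hKM ↔ ∃ m ∈ K, m⁻¹ * x ∈ Subgroup.centralizer (M : Set G) := Iff.rfl

theorem mulCentralizer_commutator {K M : Subgroup G} {hKM : K ≤ M} {x y m n : G} (hm : m ∈ K) (hn : n ∈ K)
    (hx : m⁻¹ * x ∈ Subgroup.centralizer (M : Set G)) (hy : n⁻¹ * y ∈ Subgroup.centralizer (M : Set G)) :
    ⁅m, n⁆⁻¹ * ⁅x, y⁆ ∈ Subgroup.centralizer (M : Set G) := by
  obtain ⟨c, hc, rfl⟩ : ∃ c ∈ Subgroup.centralizer (M : Set G), x = m * c := ⟨_, hx, by group⟩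
  obtain ⟨d, hd, rfl⟩ : ∃ d ∈ Subgroup.centralizer (M : Set G), y = n * d := ⟨_, hy, by group⟩
  have h1 : Commute n c := Subgroup.mem_centralizer_iff.1 hc n (hKM hn)
  have h2 : Commute m d := Subgroup.mem_centralizer_iff.1 hd m (hKM hm)
  have h3 : Commute m⁻¹ (d * c⁻¹) :=
    Subgroup.mem_centralizer_iff.1 (mul_mem hd (inv_mem hc)) m⁻¹ (hKM (inv_mem hm))
  have h4 : Commute (m⁻¹ * n⁻¹) (c * d * c⁻¹ * d⁻¹) := Subgroup.mem_centralizer_iff.1
    (mul_mem (mul_mem (mul_mem hc hd) (inv_mem hc)) (inv_mem hd)) _ (hKM (mul_mem (inv_mem hm) (inv_mem hn)))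
  have h5 : Commute c n⁻¹ := (h1.symm).inv_right
  have e : ⁅m * c, n * d⁆ = ⁅m, n⁆ * ⁅c, d⁆ := by
    simp only [commutatorElement_def]
    calc m * c * (n * d) * (m * c)⁻¹ * (n * d)⁻¹
        = m * (c * n) * (d * c⁻¹) * m⁻¹ * (d⁻¹ * n⁻¹) := by group
      _ = m * (n * c) * (d * c⁻¹) * m⁻¹ * (d⁻¹ * n⁻¹) := by rw [h1.eq]
      _ = m * n * (c * ((d * c⁻¹) * m⁻¹)) * (d⁻¹ * n⁻¹) := by group
      _ = m * n * (c * (m⁻¹ * (d * c⁻¹))) * (d⁻¹ * n⁻¹) := by rw [h3.eq]
      _ = m * n * ((c * m⁻¹) * (d * c⁻¹) * d⁻¹) * n⁻¹ := by group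
      _ = m * n * ((m⁻¹ * c) * (d * c⁻¹) * d⁻¹) * n⁻¹ := by
        rw [(show Commute m⁻¹ c from Subgroup.mem_centralizer_iff.1 hc m⁻¹ (hKM (inv_mem hm))).eq]
      _ = m * n * (m⁻¹ * ((c * d * c⁻¹ * d⁻¹) * n⁻¹)) := by group
      _ = m * n * (m⁻¹ * (n⁻¹ * (c * d * c⁻¹ * d⁻¹))) := by
        rw [(show Commute n⁻¹ (c * d * c⁻¹ * d⁻¹) from Subgroup.mem_centralizer_iff.1
          (mul_mem (mul_mem (mul_mem hc hd) (inv_mem hc)) (inv_mem hd)) n⁻¹ (hKM (inv_mem hn))).eq]
      _ = m * n * m⁻¹ * n⁻¹ * (c * d * c⁻¹ * d⁻¹) := by group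
  rw [e, inv_mul_cancel_left]
  exact mul_mem (mul_mem (mul_mem hc hd) (inv_mem hc)) (inv_mem hd)

theorem isComponent_restrict {L X C : Subgroup G} (hLX : L ≤ X) (hXC : X ≤ C) (hL : IsComponent (L.subgroupOf C)) :
    IsComponent (L.subgroupOf X) := by
  refine ⟨Subgroup.IsSubnormal.comap (Subgroup.inclusion hXC) hL.1, ?_⟩
  exact CfsgLib.IsoInv.isQuasisimple_of_equiv
    ((Subgroup.subgroupOfEquivOfLe (hLX.trans hXC)).trans (Subgroup.subgroupOfEquivOfLe hLX).symm) hL.2

theorem quasisimple_of_component_subgroupOf {L C : Subgroup G} (hLC : L ≤ C) (hL : IsComponent (L.subgroupOf C)) :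
    IsQuasisimple ↥L :=
  CfsgLib.IsoInv.isQuasisimple_of_equiv (Subgroup.subgroupOfEquivOfLe hLC) hL.2

theorem quasisimple_ne_bot_of {L : Subgroup G} (hL : IsQuasisimple ↥L) : L ≠ ⊥ := by
  haveI := quasisimple_nontrivial hL
  exact (Subgroup.nontrivial_iff_ne_bot L).1 inferInstance

/-- A subgroup with trivial commutator with a quasisimple group containing it is absurd. -/
theorem quasisimple_not_commute_self {L : Subgroup G} (hL : IsQuasisimple ↥L) : ⁅L, L⁆ ≠ ⊥ := by
  rw [quasisimple_commutator hL]; exact quasisimple_ne_bot_of hL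

/-- Nested quasisimple subgroups, the smaller one subnormal in something containing the larger. -/
theorem quasisimple_eq_of_le {L Δ C : Subgroup G} (hLΔ : L ≤ Δ) (hΔC : Δ ≤ C) (hL : IsComponent (L.subgroupOf C))
    (hΔ : IsQuasisimple ↥Δ) : L = Δ := by
  have hLq := quasisimple_of_component_subgroupOf (hLΔ.trans hΔC) hL
  rcases quasisimple_subnormal hΔ (isComponent_restrict hLΔ hΔC hL).1 with h | h
  · exfalso
    refine quasisimple_not_commute_self hLq ?_
    rw [Subgroup.commutator_eq_bot_iff_le_centralizer]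
    intro a ha
    rw [Subgroup.mem_centralizer_iff]
    intro b hb
    exact congrArg Subtype.val
      (Subgroup.mem_center_iff.1 (h (show (⟨a, hLΔ ha⟩ : ↥Δ) ∈ L.subgroupOf Δ from ha)) ⟨b, hLΔ hb⟩)
  · exact le_antisymm hLΔ (Subgroup.subgroupOf_eq_top.1 h)

variable [Finite G]

/-- An element of the layer normalizes every component. -/
theorem layer_le_normalizer_component {K : Subgroup G} (hK : IsComponent K) :
    layer G ≤ Subgroup.normalizer (K : Set G) := by
  refine sSup_le fun L hL => ?_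
  by_cases h : L = K
  · rw [h]; exact Subgroup.le_normalizer
  · exact (Subgroup.commutator_eq_bot_iff_le_centralizer.1 (components_commute hL hK h)).trans
      (Subgroup.centralizer_le_normalizer _)

/-- A component whose order is divisible by `p` lies in the `p`-layer. -/
theorem component_le_pLayer_of_dvd {p : ℕ} [hp : Fact p.Prime] {K : Subgroup G} (hK : IsComponent K)
    (hd : p ∣ Nat.card K) : K ≤ pLayer p G := by
  haveI := pLayer_normal (X := G) (p := p)
  set π := QuotientGroup.mk' (pPrimeCore p G)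
  have hle : K.map π ≤ (pLayer p G).map π := by
    rcases component_map hK (pPrimeCore p G) with h | h
    · rw [(Subgroup.map_eq_bot_iff K).2 (by rw [QuotientGroup.ker_mk']; exact h)]; exact bot_le
    · rw [pLayer_map]; exact component_le_layer h
  have hsup : K ≤ pLayer p G ⊔ pPrimeCore p G := by
    have := Subgroup.map_le_iff_le_comap.1 hle
    rwa [Subgroup.comap_map_eq, QuotientGroup.ker_mk'] at this
  have htop := quasisimple_eq_top_of_pElements hK.2 hd
    (inferInstance : ((pLayer p G).subgroupOf K).Normal) (fun x k hx => ?_)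
  · exact Subgroup.subgroupOf_eq_top.1 htop
  show (x : G) ∈ pLayer p G
  obtain ⟨y, hy, n, hn, hyn⟩ := Subgroup.mem_sup_of_normal_left.1 (hsup x.2)
  have hxk : (x : G) ^ p ^ k = 1 := congrArg Subtype.val hx
  rw [← QuotientGroup.eq_one_iff (N := pLayer p G)]
  have hxn : (QuotientGroup.mk' (pLayer p G)) (x : G) = QuotientGroup.mk' (pLayer p G) n := by
    rw [← hyn, map_mul, show QuotientGroup.mk' (pLayer p G) y = 1 from (QuotientGroup.eq_one_iff y).2 hy, one_mul]
  have h1 : (QuotientGroup.mk' (pLayer p G) (x : G)) ^ p ^ k = 1 := by rw [← map_pow, hxk, map_one]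
  have h2 : (QuotientGroup.mk' (pLayer p G) (x : G)) ^ Nat.card (pPrimeCore p G) = 1 := by
    rw [hxn, ← map_pow, CfsgLib.PCore.pow_card_of_mem hn, map_one]
  have hcop : (p ^ k).Coprime (Nat.card (pPrimeCore p G)) :=
    ((CfsgLib.PCore.pPrimeCore_coprime p G).symm).pow_left k
  have h3 := pow_gcd_eq_one.2 ⟨h1, h2⟩
  rw [hcop.gcd_eq_one, pow_one] at h3
  exact h3

/-- **Components of a fixed-point subgroup in the layer.** -/
theorem component_of_fixed {t : G} (ht2 : t * t = 1) {L : Subgroup G}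
    (hLt : L ≤ Subgroup.centralizer ({t} : Set G))
    (hL : IsComponent (L.subgroupOf (Subgroup.centralizer ({t} : Set G)))) (hLE : L ≤ layer G) :
    ∃ D : Subgroup G, IsComponent D ∧
      (L = D ∨ (L < D ∧ D = ⁅D, Subgroup.zpowers t⁆) ∨
        (D.map (MulAut.conj t).toMonoidHom ≠ D ∧
          (∃ φ : D →* G, (∀ d : D, φ d = (d : G) * (t * d * t⁻¹)) ∧ L = φ.range) ∧
          L = (layer ↥((D ⊔ D.map (MulAut.conj t).toMonoidHom) ⊓ Subgroup.centralizer ({t} : Set G))).map
            ((D ⊔ D.map (MulAut.conj t).toMonoidHom) ⊓ Subgroup.centralizer ({t} : Set G)).subtype)) := by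
  classical
  set C := Subgroup.centralizer ({t} : Set G) with hCdef
  have hLq := quasisimple_of_component_subgroupOf hLt hL
  have hLperf := quasisimple_commutator hLq
  obtain ⟨D, hD, hLD⟩ : ∃ D : Subgroup G, IsComponent D ∧ ⁅L, D⁆ ≠ ⊥ := by
    by_contra hcon
    push Not at hcon
    refine quasisimple_not_commute_self hLq (Subgroup.commutator_eq_bot_iff_le_centralizer.2 ?_)
    have h1 : layer G ≤ Subgroup.centralizer (L : Set G) := sSup_le fun D hD =>
      Subgroup.commutator_eq_bot_iff_le_centralizer.1 (by rw [Subgroup.commutator_comm]; exact hcon D hD)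
    exact hLE.trans h1
  refine ⟨D, hD, ?_⟩
  set D' := D.map (MulAut.conj t).toMonoidHom with hD'def
  have hD' : IsComponent D' := isComponent_conj hD t
  set M := D ⊔ D' with hMdef
  have htinv : t⁻¹ = t := inv_eq_of_mul_eq_one_right ht2
  have hD'D : D'.map (MulAut.conj t).toMonoidHom = D := by
    rw [hD'def, Subgroup.map_map]
    convert Subgroup.map_id D
    ext x
    show t * (t * x * t⁻¹) * t⁻¹ = x
    rw [htinv]
    simp only [← mul_assoc, ht2, one_mul]
    rw [mul_assoc, ht2, mul_one]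
  have hMt : ∀ m ∈ M, t * m * t⁻¹ ∈ M := by
    have h : M.map (MulAut.conj t).toMonoidHom = M := by
      rw [hMdef, Subgroup.map_sup, hD'D, ← hD'def, sup_comm]
    intro m hm
    rw [← h]; exact ⟨m, hm, rfl⟩
  have hLN : L ≤ Subgroup.normalizer (M : Set G) := hLE.trans fun x hx => by
    have h1 := layer_le_normalizer_component hD hx
    have h2 := layer_le_normalizer_component hD' hx
    exact Subgroup.mem_normalizer_iff_map_conj_eq.2 (by
      rw [hMdef, Subgroup.map_sup, Subgroup.mem_normalizer_iff_map_conj_eq.1 h1,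
        Subgroup.mem_normalizer_iff_map_conj_eq.1 h2])
  have hE : layer G ≤ mulCentralizer M M le_rfl := by
    refine sSup_le fun K hK => ?_
    by_cases h1 : K = D
    · intro x hx; exact ⟨x, (le_sup_left : D ≤ M) (h1 ▸ hx), by simp [one_mem]⟩
    by_cases h2 : K = D'
    · intro x hx; exact ⟨x, (le_sup_right : D' ≤ M) (h2 ▸ hx), by simp [one_mem]⟩
    · intro x hx
      refine ⟨1, one_mem M, ?_⟩
      rw [inv_one, one_mul]
      have hle : M ≤ Subgroup.centralizer (K : Set G) := sup_le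
        (Subgroup.commutator_eq_bot_iff_le_centralizer.1 (components_commute hD hK (Ne.symm h1)))
        (Subgroup.commutator_eq_bot_iff_le_centralizer.1 (components_commute hD' hK (Ne.symm h2)))
      exact Subgroup.mem_centralizer_iff.2 fun m hm => (Subgroup.mem_centralizer_iff.1 (hle hm) x hx).symm
  have hlC : ∀ l ∈ L, t * l * t⁻¹ = l := fun l hl => by
    rw [mul_inv_eq_iff_eq_mul]
    exact (Subgroup.mem_centralizer_singleton_iff.1 (hLt hl)).symm
  -- the `M`-part of an element of `L` is fixed by `t` modulo `C(M)`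
  have hpart : ∀ l ∈ L, ∀ m ∈ M, m⁻¹ * l ∈ Subgroup.centralizer (M : Set G) →
      m⁻¹ * (t * m * t⁻¹) ∈ Subgroup.centralizer (M : Set G) := by
    intro l hl m hm hc
    have h1 : t * (m⁻¹ * l) * t⁻¹ ∈ Subgroup.centralizer (M : Set G) := by
      rw [Subgroup.mem_centralizer_iff]
      intro x hx
      have h := Subgroup.mem_centralizer_iff.1 hc _ (hMt x hx)
      rw [htinv] at h ⊢
      calc x * (t * (m⁻¹ * l) * t) = (t * t) * x * (t * (m⁻¹ * l) * t) := by rw [ht2, one_mul]
        _ = t * (t * x * t * (m⁻¹ * l)) * t := by group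
        _ = t * ((m⁻¹ * l) * (t * x * t)) * t := by rw [h]
        _ = t * (m⁻¹ * l) * t * x * (t * t) := by group
        _ = t * (m⁻¹ * l) * t * x := by rw [ht2, mul_one]
    have e : t * (m⁻¹ * l) * t⁻¹ = (t * m * t⁻¹)⁻¹ * l := by
      conv_rhs => rw [← hlC l hl]
      group
    rw [e] at h1
    have := mul_mem hc (inv_mem h1)
    simpa [mul_assoc] using this
  have hI : L ≤ mulCentralizer (M ⊓ C) M inf_le_left := by
    conv_lhs => rw [← hLperf]
    rw [Subgroup.commutator_le]
    intro x hx y hy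
    obtain ⟨m, hm, hmx⟩ := hE (hLE hx)
    obtain ⟨n, hn, hny⟩ := hE (hLE hy)
    refine ⟨⁅m, n⁆, ⟨?_, ?_⟩, mulCentralizer_commutator (K := M) (hKM := le_rfl) hm hn hmx hny⟩
    · show ⁅m, n⁆ ∈ M
      rw [commutatorElement_def]
      exact mul_mem (mul_mem (mul_mem hm hn) (inv_mem hm)) (inv_mem hn)
    · show ⁅m, n⁆ ∈ C
      rw [hCdef, Subgroup.mem_centralizer_singleton_iff]
      obtain ⟨c, hc, e1⟩ : ∃ c ∈ Subgroup.centralizer (M : Set G), t * m * t⁻¹ = m * c :=
        ⟨_, hpart x hx m hm hmx, by group⟩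
      obtain ⟨d, hd, e2⟩ : ∃ d ∈ Subgroup.centralizer (M : Set G), t * n * t⁻¹ = n * d :=
        ⟨_, hpart y hy n hn hny, by group⟩
      have hcM : c ∈ M := by
        have : c = m⁻¹ * (t * m * t⁻¹) := by rw [e1]; group
        rw [this]; exact mul_mem (inv_mem hm) (hMt m hm)
      have hdM : d ∈ M := by
        have : d = n⁻¹ * (t * n * t⁻¹) := by rw [e2]; group
        rw [this]; exact mul_mem (inv_mem hn) (hMt n hn)
      have hcd : ⁅c, d⁆ = 1 :=
        commutatorElement_eq_one_iff_mul_comm.2 (Subgroup.mem_centralizer_iff.1 hd c hcM)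
      have hk := mulCentralizer_commutator (K := M) (hKM := le_rfl) (x := m * c) (y := n * d) hm hn
        (by simpa using hc) (by simpa using hd)
      have e3 : ⁅m * c, n * d⁆ = ⁅m, n⁆ := by
        have h1 : Commute n c := Subgroup.mem_centralizer_iff.1 hc n hn
        have h2 : Commute m d := Subgroup.mem_centralizer_iff.1 hd m hm
        have h3 : Commute c d := commutatorElement_eq_one_iff_mul_comm.1 hcd
        simp only [commutatorElement_def]
        calc m * c * (n * d) * (m * c)⁻¹ * (n * d)⁻¹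
            = m * (c * n) * (d * c⁻¹) * m⁻¹ * d⁻¹ * n⁻¹ := by group
          _ = m * (n * c) * (d * c⁻¹) * m⁻¹ * d⁻¹ * n⁻¹ := by rw [h1.eq]
          _ = m * n * (c * d) * c⁻¹ * m⁻¹ * d⁻¹ * n⁻¹ := by group
          _ = m * n * (d * c) * c⁻¹ * m⁻¹ * d⁻¹ * n⁻¹ := by rw [h3.eq]
          _ = m * n * (d * m⁻¹) * d⁻¹ * n⁻¹ := by group
          _ = m * n * (m⁻¹ * d) * d⁻¹ * n⁻¹ := by rw [(h2.inv_left).eq]
          _ = m * n * m⁻¹ * n⁻¹ := by group
      have e4 : t * ⁅m, n⁆ * t⁻¹ = ⁅m, n⁆ := by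
        have : t * ⁅m, n⁆ * t⁻¹ = ⁅t * m * t⁻¹, t * n * t⁻¹⁆ := by simp only [commutatorElement_def]; group
        rw [this, e1, e2, e3]
      exact (mul_inv_eq_iff_eq_mul.1 e4).symm
  have hLM : L ≤ M := by
    set X := Subgroup.normalizer (M : Set G) ⊓ C with hXdef
    have hLX : L ≤ X := le_inf hLN hLt
    have hMX : M ⊓ C ≤ X := inf_le_inf_right _ Subgroup.le_normalizer
    haveI hn : ((M ⊓ C).subgroupOf X).Normal := by
      refine ⟨fun m hm g => ⟨?_, ?_⟩⟩
      · show (g : G) * m * (g : G)⁻¹ ∈ M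
        exact (Subgroup.mem_normalizer_iff.1 g.2.1 m).1 hm.1
      · show (g : G) * m * (g : G)⁻¹ ∈ C
        exact mul_mem (mul_mem g.2.2 hm.2) (inv_mem g.2.2)
    rcases component_normal_or_commute (isComponent_restrict hLX inf_le_right hL) hn with h | h
    · exact fun x hx => (h (show (⟨x, hLX hx⟩ : ↥X) ∈ L.subgroupOf X from hx)).1
    · exfalso
      have hb : ⁅L, M ⊓ C⁆ = ⊥ := commutator_subgroupOf_eq_bot hLX hMX h
      have hcl : L ≤ Subgroup.centralizer (M : Set G) := by
        conv_lhs => rw [← hLperf]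
        rw [Subgroup.commutator_le]
        intro x hx y hy
        obtain ⟨m, hm, hmx⟩ := hI hx
        obtain ⟨n, hn', hny⟩ := hI hy
        have hk := mulCentralizer_commutator (hKM := inf_le_left) hm hn' hmx hny
        have hmn : ⁅m, n⁆ = 1 := by
          rw [commutatorElement_eq_one_iff_mul_comm]
          have h1 : Commute y m :=
            (Subgroup.mem_centralizer_iff.1 ((Subgroup.commutator_eq_bot_iff_le_centralizer.1 hb) hy) m hm).symm
          have h2 : Commute (n⁻¹ * y) m := (Subgroup.mem_centralizer_iff.1 hny m hm.1).symm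
          have h3 : Commute (y * (n⁻¹ * y)⁻¹) m := h1.mul_left h2.inv_left
          rw [show y * (n⁻¹ * y)⁻¹ = n by group] at h3
          exact h3.eq.symm
        rwa [hmn, inv_one, one_mul] at hk
      exact hLD (Subgroup.commutator_eq_bot_iff_le_centralizer.2
        (hcl.trans (Subgroup.centralizer_le (SetLike.coe_subset_coe.2 le_sup_left))))
  by_cases hfix : D' = D
  · -- `t` normalizes `D`
    have hMD : M = D := by rw [hMdef, hfix, sup_idem]
    rw [hMD] at hLM
    by_cases hLeq : L = D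
    · exact Or.inl hLeq
    refine Or.inr (Or.inl ⟨lt_of_le_of_ne hLM hLeq, ?_⟩)
    have htN : Subgroup.zpowers t ≤ Subgroup.normalizer (D : Set G) :=
      Subgroup.zpowers_le.2 (Subgroup.mem_normalizer_iff_map_conj_eq.2 hfix)
    have hle : ⁅D, Subgroup.zpowers t⁆ ≤ D := CfsgLib.PCore.commutator_le_of_le_normalizer htN
    have hn : (⁅D, Subgroup.zpowers t⁆.subgroupOf D).Normal :=
      Subgroup.normal_subgroupOf_of_le_normalizer
        ((Subgroup.normalizer_commutator_ge_left _ _))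
    rcases quasisimple_normal hD.2 hn with h | h
    · exfalso
      have hDC : D ≤ C := by
        have h3 : ⁅⁅D, D⁆, Subgroup.zpowers t⁆ = ⊥ := by
          have hc1 : ⁅⁅D, Subgroup.zpowers t⁆, D⁆ = ⊥ := by
            rw [Subgroup.commutator_eq_bot_iff_le_centralizer]
            intro x hx
            rw [Subgroup.mem_centralizer_iff]
            intro y hy
            exact congrArg Subtype.val
              (Subgroup.mem_center_iff.1 (h (show (⟨x, hle hx⟩ : ↥D) ∈ _ from hx)) ⟨y, hy⟩)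
          exact Subgroup.commutator_commutator_eq_bot_of_rotate hc1
            (by rw [Subgroup.commutator_comm (Subgroup.zpowers t) D]; exact hc1)
        rw [quasisimple_commutator hD.2] at h3
        intro x hx
        rw [hCdef, Subgroup.mem_centralizer_singleton_iff]
        exact (Subgroup.mem_centralizer_iff.1
          ((Subgroup.commutator_eq_bot_iff_le_centralizer.1 h3) hx) t (Subgroup.mem_zpowers t)).symm
      exact hLeq (quasisimple_eq_of_le hLM hDC hL hD.2)
    · exact le_antisymm (Subgroup.subgroupOf_eq_top.1 h) hle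
  · -- `t` moves `D`
    have hDD' : ∀ d ∈ D, ∀ e ∈ D', d * e = e * d := fun d hd e he =>
      commutatorElement_eq_one_iff_mul_comm.1 (by
        rw [← Subgroup.mem_bot, ← components_commute hD hD' (Ne.symm hfix)]
        exact Subgroup.commutator_mem_commutator hd he)
    have hc' : ∀ d : D, t * (d : G) * t⁻¹ ∈ D' := fun d => ⟨d, d.2, rfl⟩
    let φ : D →* G := MonoidHom.mk' (fun d => (d : G) * (t * d * t⁻¹)) (by
      intro a b
      calc ((a : G) * b) * (t * ((a : G) * b) * t⁻¹) = a * (b * (t * a * t⁻¹)) * (t * b * t⁻¹) := by group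
        _ = a * ((t * a * t⁻¹) * b) * (t * b * t⁻¹) := by rw [hDD' b b.2 _ (hc' a)]
        _ = _ := by group)
    have hφC : φ.range ≤ C := by
      rintro _ ⟨d, rfl⟩
      rw [hCdef, Subgroup.mem_centralizer_singleton_iff]
      show (d : G) * (t * d * t⁻¹) * t = t * ((d : G) * (t * d * t⁻¹))
      have h := hDD' d d.2 _ (hc' d)
      rw [htinv] at h ⊢
      calc (d : G) * (t * d * t) * t = d * t * d * (t * t) := by group
        _ = d * t * d := by rw [ht2, mul_one]
        _ = (t * t) * (d * t * d) := by rw [ht2, one_mul]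
        _ = t * ((t * d * t) * d) := by group
        _ = t * ((d : G) * (t * d * t)) := by rw [← h]
    have hMdec : ∀ m ∈ M, ∃ d ∈ D, ∃ e ∈ D', m = d * e := by
      intro m hm
      rw [hMdef, show D ⊔ D' = Subgroup.closure ((D : Set G) ∪ D') by
        rw [Subgroup.closure_union, D.closure_eq, D'.closure_eq]] at hm
      induction hm using Subgroup.closure_induction with
      | mem x hx =>
        rcases hx with hx | hx
        · exact ⟨x, hx, 1, one_mem _, (mul_one x).symm⟩
        · exact ⟨1, one_mem _, x, hx, (one_mul x).symm⟩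
      | one => exact ⟨1, one_mem _, 1, one_mem _, (one_mul _).symm⟩
      | mul x y _ _ ihx ihy =>
        obtain ⟨d, hd, e, he, rfl⟩ := ihx
        obtain ⟨d', hd', e', he', rfl⟩ := ihy
        refine ⟨d * d', mul_mem hd hd', e * e', mul_mem he he', ?_⟩
        calc d * e * (d' * e') = d * (e * d') * e' := by group
          _ = d * (d' * e) * e' := by rw [hDD' d' hd' e he]
          _ = _ := by group
      | inv x _ ihx =>
        obtain ⟨d, hd, e, he, rfl⟩ := ihx
        exact ⟨d⁻¹, inv_mem hd, e⁻¹, inv_mem he, by rw [mul_inv_rev, ← hDD' _ (inv_mem hd) _ (inv_mem he)]⟩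
    -- `C_M(t)` is `φ(D)` times central elements
    have hMC : ∀ m ∈ M ⊓ C, ∃ k ∈ φ.range, k⁻¹ * m ∈ Subgroup.centralizer (M : Set G) := by
      rintro m ⟨hm, hmC⟩
      obtain ⟨d, hd, e, he, rfl⟩ := hMdec m hm
      refine ⟨φ ⟨d, hd⟩, ⟨_, rfl⟩, ?_⟩
      set z := (φ ⟨d, hd⟩)⁻¹ * (d * e) with hz
      have hzC : z ∈ C := mul_mem (inv_mem (hφC ⟨_, rfl⟩)) hmC
      have hzD' : z ∈ D' := by
        have : z = (t * d * t⁻¹)⁻¹ * e := by
          rw [hz]; show (d * (t * d * t⁻¹))⁻¹ * (d * e) = _; group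
        rw [this]; exact mul_mem (inv_mem (hc' ⟨d, hd⟩)) he
      have hzD : z ∈ D := by
        have h1 : t * z * t⁻¹ ∈ D := by rw [← hD'D]; exact ⟨z, hzD', rfl⟩
        rwa [← Subgroup.mem_centralizer_singleton_iff.1 hzC, mul_inv_cancel_right] at h1
      rw [Subgroup.mem_centralizer_iff]
      intro x hx
      obtain ⟨a, ha, b, hb, rfl⟩ := hMdec x hx
      exact (Commute.mul_left (show Commute a z from hDD' a ha z hzD')
        (show Commute b z from (hDD' z hzD b hb).symm)).eq
    have hperfle : ∀ Y : Subgroup G, Y ≤ M ⊓ C → ⁅Y, Y⁆ = Y → Y ≤ φ.range := by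
      intro Y hY hperf
      rw [← hperf, Subgroup.commutator_le]
      intro x hx y hy
      obtain ⟨k, hk, hkx⟩ := hMC x (hY hx)
      obtain ⟨k', hk', hky⟩ := hMC y (hY hy)
      have hkM : φ.range ≤ M := by
        rintro _ ⟨d, rfl⟩
        exact mul_mem ((le_sup_left : D ≤ M) d.2) ((le_sup_right : D' ≤ M) (hc' d))
      -- the central parts commute with everything in `M`
      have hcx : ∀ w ∈ M, Commute w (k⁻¹ * x) := fun w hw => Subgroup.mem_centralizer_iff.1 hkx w hw
      have hcy : ∀ w ∈ M, Commute w (k'⁻¹ * y) := fun w hw => Subgroup.mem_centralizer_iff.1 hky w hw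
      have h := mulCentralizer_commutator (K := M) (hKM := le_rfl) (hkM hk) (hkM hk') hkx hky
      have hxM : k⁻¹ * x ∈ M := mul_mem (inv_mem (hkM hk)) (hY hx).1
      have hyM : k'⁻¹ * y ∈ M := mul_mem (inv_mem (hkM hk')) (hY hy).1
      have e : ⁅x, y⁆ = ⁅k, k'⁆ := by
        have a1 : ⁅k * (k⁻¹ * x), k' * (k'⁻¹ * y)⁆ = ⁅k, k'⁆ := by
          have h1 := hcx k' (hkM hk')
          have h2 := hcy k (hkM hk)
          have h3 := hcy _ hxM
          have h4 := hcx k (hkM hk)
          simp only [commutatorElement_def]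
          generalize k⁻¹ * x = c at h1 h2 h3 h4
          generalize k'⁻¹ * y = d at h2 h3
          calc k * c * (k' * d) * (k * c)⁻¹ * (k' * d)⁻¹
              = k * (c * k') * (d * c⁻¹) * k⁻¹ * d⁻¹ * k'⁻¹ := by group
            _ = k * (k' * c) * (d * c⁻¹) * k⁻¹ * d⁻¹ * k'⁻¹ := by rw [h1.eq]
            _ = k * k' * (c * d) * c⁻¹ * k⁻¹ * d⁻¹ * k'⁻¹ := by group
            _ = k * k' * (d * c) * c⁻¹ * k⁻¹ * d⁻¹ * k'⁻¹ := by rw [h3.eq]
            _ = k * k' * (d * k⁻¹) * d⁻¹ * k'⁻¹ := by group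
            _ = k * k' * (k⁻¹ * d) * d⁻¹ * k'⁻¹ := by rw [(h2.inv_left).eq]
            _ = k * k' * k⁻¹ * k'⁻¹ := by group
        simpa using a1
      rw [e, commutatorElement_def]
      exact mul_mem (mul_mem (mul_mem hk hk') (inv_mem hk)) (inv_mem hk')
    have hLφ : L ≤ φ.range := hperfle L (le_inf hLM hLt) hLperf
    have hφq : IsQuasisimple ↥φ.range := by
      rcases quasisimple_normal hD.2 φ.normal_ker with h | h
      · exact CfsgLib.IsoInv.isQuasisimple_of_equiv (QuotientGroup.quotientKerEquivRange φ)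
          (isQuasisimple_quotient h hD.2)
      · exfalso
        have hb : φ.range = ⊥ := MonoidHom.range_eq_bot_iff.2 (MonoidHom.ker_eq_top_iff.1 h)
        exact quasisimple_ne_bot_of hLq (le_bot_iff.1 (hb ▸ hLφ))
    have hLeq : L = φ.range := quasisimple_eq_of_le hLφ hφC hL hφq
    refine Or.inr (Or.inr ⟨hfix, ⟨φ, fun d => rfl, hLeq⟩, ?_⟩)
    refine le_antisymm ?_ ?_
    · have h := component_le_layer (isComponent_restrict (X := M ⊓ C) (le_inf hLM hLt) inf_le_right hL)
      intro x hx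
      exact ⟨⟨x, ⟨hLM hx, hLt hx⟩⟩, h hx, rfl⟩
    · rw [Subgroup.map_le_iff_le_comap]
      refine sSup_le fun K hK => ?_
      rw [← Subgroup.map_le_iff_le_comap, hLeq]
      refine hperfle _ (Subgroup.map_subtype_le K) ?_
      rw [← Subgroup.map_commutator, quasisimple_commutator hK.2]

end CfsgLib.Components
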