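import Cfsg.Agent.Components.CharP
import Cfsg.Agent.Components.PCompInternal
import Cfsg.Agent.PCore.PConstrained

/-! `p`-constraint is the triviality of the `p`-layer. -/

set_option autoImplicit false

namespace CfsgLib.Components

theorem isPConstrained_iff_pLayer_eq_bot {X : Type*} [Group X] [Finite X] (p : ℕ) [Fact p.Prime] :
    Cfsg.IsPConstrained p X ↔ Cfsg.pLayer p X = ⊥ := by
  rw [PCore.isPConstrained_iff, ← generalizedFitting_eq_pCore_iff]
  have hbot := pPrimeCore_quotient_eq_bot (X := X) p
  constructor
  · intro h
    refine le_bot_iff.1 (sSup_le fun K hK => ?_)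
    exfalso
    have hK' := pLayer_map (X := X) (p := p)
    have hle : Cfsg.layer (X ⧸ Cfsg.pPrimeCore p X) ≤ Cfsg.pCore p (X ⧸ Cfsg.pPrimeCore p X) :=
      layer_le_generalizedFittingSubgroup.trans h.le
    refine pComponent_not_le_pPrimeCore hK ?_
    have hl : Cfsg.layer (X ⧸ Cfsg.pPrimeCore p X) = ⊥ := by
      refine layer_eq_bot_of_no_component fun L hL => ?_
      exact quasisimple_not_nilpotent hL.2
        ((pCore_isPGroup p).to_le ((component_le_layer hL).trans hle)).isNilpotent
    rw [hl, Subgroup.map_eq_bot_iff, QuotientGroup.ker_mk'] at hK'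
    exact (pComponent_le_pLayer hK).trans hK'
  · intro h
    refine isCharP_of_no_component hbot fun L hL => ?_
    have hK' := pLayer_map (X := X) (p := p)
    rw [h, Subgroup.map_bot] at hK'
    have := component_le_layer hL
    rw [← hK', le_bot_iff] at this
    exact quasisimple_not_nilpotent hL.2 (this ▸ inferInstance)

end CfsgLib.Components
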