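import Cfsg.Agent.Components.Basic

/-!
Small facts about the layer and the generalized Fitting subgroup of subnormal subgroups.
-/

set_option autoImplicit false

namespace CfsgLib.Components

open scoped commutatorElement
open Cfsg (IsQuasisimple IsComponent layer fittingSubgroup generalizedFittingSubgroup)

variable {G : Type*} [Group G] [Finite G]

theorem fitting_map_le {B : Subgroup G} (hB : B.IsSubnormal) :
    (fittingSubgroup ↥B).map B.subtype ≤ fittingSubgroup G := by
  have := fittingSubgroup_isNilpotent (G := ↥B)
  refine subnormal_le_fittingSubgroup (subnormal_map_subtype fittingSubgroup_normal.isSubnormal hB) ?_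
  exact Group.nilpotent_of_surjective
    ((fittingSubgroup ↥B).equivMapOfInjective B.subtype B.subtype_injective).toMonoidHom
    ((fittingSubgroup ↥B).equivMapOfInjective B.subtype B.subtype_injective).surjective

theorem fitting_inf_eq {B : Subgroup G} (hB : B.IsSubnormal) :
    (fittingSubgroup ↥B).map B.subtype = fittingSubgroup G ⊓ B := by
  refine le_antisymm (le_inf (fitting_map_le hB) (Subgroup.map_subtype_le _)) ?_
  rw [← Subgroup.subgroupOf_map_subtype]
  refine Subgroup.map_mono (le_fittingSubgroup (fittingSubgroup_normal.subgroupOf B) ?_)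
  have := fittingSubgroup_isNilpotent (G := G)
  exact Subgroup.isNilpotent_of_ker_le_center (B.subtype.subgroupComap (fittingSubgroup G))
    (by
      intro x hx
      have h1 : x = 1 := Subtype.ext (Subtype.ext (congrArg Subtype.val (MonoidHom.mem_ker.mp hx) :))
      rw [h1]
      exact one_mem _)

theorem layer_map_subtype_le {B : Subgroup G} (hB : B.IsSubnormal) :
    (layer ↥B).map B.subtype ≤ layer G :=
  Subgroup.map_le_iff_le_comap.mpr (sSup_le fun _ hK =>
    Subgroup.map_le_iff_le_comap.mp (component_le_layer (isComponent_map_subtype hB hK)))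

/-- `F*(B) = F*(G) ∩ B` for a normal subgroup `B`. -/
theorem generalizedFitting_inf_eq (B : Subgroup G) [hB : B.Normal] :
    generalizedFittingSubgroup G ⊓ B = (generalizedFittingSubgroup ↥B).map B.subtype := by
  refine le_antisymm ?_ (le_inf ?_ (Subgroup.map_subtype_le _))
  swap
  · rw [generalizedFittingSubgroup, Subgroup.map_sup]
    exact sup_le_sup (layer_map_subtype_le hB.isSubnormal) (fitting_map_le hB.isSubnormal)
  set E1 := sSup {K : Subgroup G | IsComponent K ∧ K ≤ B} with hE1
  set E2 := sSup {K : Subgroup G | IsComponent K ∧ ¬ K ≤ B} with hE2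
  set W := B ⊓ (E2 ⊔ fittingSubgroup G) with hW
  have hE1B : E1 ≤ B := sSup_le fun K hK => hK.2
  have hE2C : E2 ≤ Subgroup.centralizer (B : Set G) := sSup_le fun K hK =>
    Subgroup.commutator_eq_bot_iff_le_centralizer.mp
      ((component_normal_or_commute hK.1 hB).resolve_left hK.2)
  have hE2F : fittingSubgroup G ≤ Subgroup.centralizer (E2 : Set G) := by
    rw [Subgroup.le_centralizer_iff]
    exact sSup_le fun K hK => Subgroup.commutator_eq_bot_iff_le_centralizer.mp (component_commute_fitting hK.1)
  have hn : E2 ⊔ fittingSubgroup G ≤ Subgroup.normalizer (E2 : Set G) :=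
    sup_le Subgroup.le_normalizer (hE2F.trans (Subgroup.centralizer_le_normalizer _))
  have hFW : generalizedFittingSubgroup G ≤ E1 ⊔ (E2 ⊔ fittingSubgroup G) := by
    refine sup_le (sSup_le fun K hK => ?_) (le_sup_right.trans le_sup_right)
    by_cases h : K ≤ B
    · exact le_sup_of_le_left (le_sSup ⟨hK, h⟩)
    · exact le_sup_of_le_right (le_sup_of_le_left (le_sSup ⟨hK, h⟩))
  have hE1n : E2 ⊔ fittingSubgroup G ≤ Subgroup.normalizer (E1 : Set G) := by
    refine le_trans ?_ (Subgroup.centralizer_le_normalizer _)
    refine sup_le (hE2C.trans (Subgroup.centralizer_le hE1B)) ?_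
    rw [Subgroup.le_centralizer_iff]
    exact sSup_le fun K hK => Subgroup.commutator_eq_bot_iff_le_centralizer.mp (component_commute_fitting hK.1)
  have hWn : W.Normal → W.subgroupOf B ≤ fittingSubgroup ↥B := by
    intro hWnormal
    have hWnil : Group.IsNilpotent ↥W := by
      have := fittingSubgroup_isNilpotent (G := G)
      have : (E2.subgroupOf (E2 ⊔ fittingSubgroup G)).Normal :=
        Subgroup.normal_subgroupOf_of_le_normalizer hn
      let q := QuotientGroup.mk' (E2.subgroupOf (E2 ⊔ fittingSubgroup G))
      let i : ↥(fittingSubgroup G) →* ↥(E2 ⊔ fittingSubgroup G) := Subgroup.inclusion le_sup_right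
      have hsurj : Function.Surjective (q.comp i) := by
        intro x
        obtain ⟨⟨u, hu⟩, rfl⟩ := QuotientGroup.mk'_surjective _ x
        have hu' : u ∈ ((E2 ⊔ fittingSubgroup G : Subgroup G) : Set G) := hu
        rw [Subgroup.coe_mul_of_right_le_normalizer_left _ _ (le_sup_right.trans hn)] at hu'
        obtain ⟨e, he, f, hf, hef⟩ := Set.mem_mul.mp hu'
        refine ⟨⟨f, hf⟩, ?_⟩
        show q ⟨f, le_sup_right (a := E2) hf⟩ = q ⟨u, hu⟩
        have hq : q ⟨e, le_sup_left (b := fittingSubgroup G) he⟩ = 1 := (QuotientGroup.eq_one_iff _).mpr he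
        rw [show (⟨u, hu⟩ : ↥(E2 ⊔ fittingSubgroup G)) =
          ⟨e, le_sup_left (b := fittingSubgroup G) he⟩ * ⟨f, le_sup_right (a := E2) hf⟩ from Subtype.ext hef.symm,
          map_mul, hq, one_mul]
      have : Group.IsNilpotent (↥(E2 ⊔ fittingSubgroup G) ⧸ E2.subgroupOf (E2 ⊔ fittingSubgroup G)) :=
        Group.nilpotent_of_surjective _ hsurj
      refine Subgroup.isNilpotent_of_ker_le_center
        (q.comp (Subgroup.inclusion (inf_le_right : W ≤ E2 ⊔ fittingSubgroup G))) ?_
      intro x hx
      have hxE : (x : G) ∈ E2 :=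
        (QuotientGroup.eq_one_iff (Subgroup.inclusion (inf_le_right : W ≤ E2 ⊔ fittingSubgroup G) x)).mp hx
      exact Subgroup.mem_center_iff.mpr fun w =>
        Subtype.ext (Subgroup.mem_centralizer_iff.mp (hE2C hxE) w w.2.1)
    refine le_fittingSubgroup (hWnormal.subgroupOf B) ?_
    exact Group.nilpotent_of_surjective (Subgroup.subgroupOfEquivOfLe (inf_le_left : W ≤ B)).symm.toMonoidHom
      (Subgroup.subgroupOfEquivOfLe (inf_le_left : W ≤ B)).symm.surjective
  have hWnormal : W.Normal := by
    have hE2n : (E2 ⊔ fittingSubgroup G).Normal := by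
      haveI := fittingSubgroup_normal (G := G)
      have : E2.Normal := Subgroup.normalizer_eq_top_iff.mp (eq_top_iff.mpr fun g _ => by
        rw [Subgroup.mem_normalizer_iff_map_conj_eq]
        refine Subgroup.eq_of_le_of_card_ge (Subgroup.map_le_iff_le_comap.mpr (sSup_le fun K hK => ?_))
          (Subgroup.card_map_of_injective (MulAut.conj g).injective).ge
        refine Subgroup.map_le_iff_le_comap.mp (le_sSup ⟨isComponent_conj hK.1 g, fun h => hK.2 ?_⟩)
        intro k hk
        have h1 := h ⟨k, hk, rfl⟩
        have h2 := hB.conj_mem _ h1 g⁻¹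
        simpa [MulAut.conj_apply, mul_assoc] using h2)
      exact Subgroup.sup_normal _ _
    exact Subgroup.normal_inf_normal _ _
  intro x hx
  have hx' : x ∈ ((E1 ⊔ (E2 ⊔ fittingSubgroup G) : Subgroup G) : Set G) := hFW hx.1
  rw [Subgroup.coe_mul_of_right_le_normalizer_left _ _ hE1n] at hx'
  obtain ⟨e, he, w, hw, rfl⟩ := Set.mem_mul.mp hx'
  have hwB : w ∈ B := (B.mul_mem_cancel_left (hE1B he)).mp hx.2
  refine mul_mem ?_ ?_
  · have hle : E1 ≤ (generalizedFittingSubgroup ↥B).map B.subtype := sSup_le fun K hK => by
      have h := Subgroup.map_mono (f := B.subtype)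
        ((component_le_layer (isComponent_subgroupOf' hK.1 hK.2)).trans layer_le_generalizedFittingSubgroup)
      rwa [Subgroup.subgroupOf_map_subtype, inf_eq_left.mpr hK.2] at h
    exact hle he
  · exact ⟨⟨w, hwB⟩, fittingSubgroup_le_generalizedFittingSubgroup
      (hWn hWnormal (show w ∈ W from ⟨hwB, hw⟩)), rfl⟩

theorem generalizedFitting_generalizedFitting :
    generalizedFittingSubgroup ↥(generalizedFittingSubgroup G) = ⊤ := by
  haveI := generalizedFittingSubgroup_normal (G := G)
  refine Subgroup.map_injective (generalizedFittingSubgroup G).subtype_injective ?_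
  rw [← generalizedFitting_inf_eq, inf_idem, ← MonoidHom.range_eq_map, Subgroup.range_subtype]

theorem generalizedFitting_map_equiv {H : Type*} [Group H] [Finite H] (φ : G ≃* H)
    (h : generalizedFittingSubgroup G = ⊤) : generalizedFittingSubgroup H = ⊤ := by
  rw [eq_top_iff, ← Subgroup.map_top_of_surjective φ.toMonoidHom φ.surjective, ← h, generalizedFittingSubgroup,
    Subgroup.map_sup]
  refine sup_le_sup ?_ ?_
  · exact Subgroup.map_le_iff_le_comap.mpr (sSup_le fun K hK =>
      Subgroup.map_le_iff_le_comap.mp (component_le_layer (isComponent_map_equiv φ hK)))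
  · have := fittingSubgroup_isNilpotent (G := G)
    exact le_fittingSubgroup (map_equiv_normal φ fittingSubgroup_normal)
      (Group.nilpotent_of_surjective
        ((fittingSubgroup G).equivMapOfInjective φ.toMonoidHom φ.injective).toMonoidHom
        ((fittingSubgroup G).equivMapOfInjective φ.toMonoidHom φ.injective).surjective)

/-- A subnormal subgroup of `G = F*(G)` is its own generalized Fitting subgroup. -/
theorem generalizedFitting_eq_top_of_subnormal (hG : generalizedFittingSubgroup G = ⊤) {S : Subgroup G}
    (hS : S.IsSubnormal) : generalizedFittingSubgroup ↥S = ⊤ := by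
  induction hS with
  | top => exact generalizedFitting_map_equiv Subgroup.topEquiv.symm hG
  | step H K hle _ hN ih =>
    refine generalizedFitting_map_equiv (Subgroup.subgroupOfEquivOfLe hle) ?_
    refine Subgroup.map_injective (H.subgroupOf K).subtype_injective ?_
    rw [← generalizedFitting_inf_eq, ih, top_inf_eq, ← MonoidHom.range_eq_map, Subgroup.range_subtype]

end CfsgLib.Components
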